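import Mathlib

/-!
# Density for irreducible representations over an algebraically closed field (helper676)

`exists_sum`: if `ρ` is an irreducible representation of the finite group `G` on a finite dimensional space over
the algebraically closed field `K`, then every endomorphism is a `K`-combination of the `ρ g`.
-/

set_option autoImplicit false

namespace Cfsg.Agent.H676.Frob

open Representation

variable {K : Type*} [Field K] [IsAlgClosed K] {G : Type*} [Group G] {V : Type*} [AddCommGroup V] [Module K V]
  [FiniteDimensional K V]

/-- **Density.** -/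
theorem exists_asAlgebraHom (ρ : Representation K G V) (hρ : ρ.IsIrreducible) (θ : Module.End K V) :
    ∃ r : MonoidAlgebra K G, ρ.asAlgebraHom r = θ := by
  have hfin : FiniteDimensional K ρ.asModule := Module.Finite.equiv ρ.asModuleEquiv.symm
  have hb := IsSimpleModule.algebraMap_end_bijective_of_isAlgClosed (A := MonoidAlgebra K G)
    (V := ρ.asModule) K
  -- `θ` as an endomorphism over the endomorphism ring
  let f : Module.End (Module.End (MonoidAlgebra K G) ρ.asModule) ρ.asModule :=
    { toFun := fun m => ρ.asModuleEquiv.symm (θ (ρ.asModuleEquiv m))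
      map_add' := fun m n => by rw [map_add, map_add, map_add]
      map_smul' := fun φ m => by
        obtain ⟨c, rfl⟩ := hb.2 φ
        have h1 : (algebraMap K (Module.End (MonoidAlgebra K G) ρ.asModule) c) • m = c • m := rfl
        have h2 : (algebraMap K (Module.End (MonoidAlgebra K G) ρ.asModule) c) •
            (ρ.asModuleEquiv.symm (θ (ρ.asModuleEquiv m))) =
            c • (ρ.asModuleEquiv.symm (θ (ρ.asModuleEquiv m))) := rfl
        rw [h1, RingHom.id_apply, h2, map_smul, map_smul, map_smul] }
  let b := Module.finBasis K ρ.asModule
  classical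
  obtain ⟨r, hr⟩ := jacobson_density f (Finset.univ.image b)
  refine ⟨r, ?_⟩
  have h3 : ∀ i, ρ.asModuleEquiv (f (b i)) = ρ.asModuleEquiv (r • b i) := fun i => by
    rw [hr (b i) (Finset.mem_image_of_mem _ (Finset.mem_univ i))]
  refine (b.map ρ.asModuleEquiv).ext fun i => ?_
  rw [Module.Basis.map_apply, ← asModuleEquiv_map_smul, ← h3]
  exact ρ.asModuleEquiv.apply_symm_apply _

/-- Every endomorphism is a combination of the group elements. -/
theorem exists_sum [Fintype G] (ρ : Representation K G V) (hρ : ρ.IsIrreducible) (θ : Module.End K V) :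
    ∃ a : G → K, θ = ∑ g, a g • ρ g := by
  obtain ⟨r, hr⟩ := exists_asAlgebraHom ρ hρ θ
  refine ⟨fun g => r.coeff g, ?_⟩
  rw [← hr, asAlgebraHom_def, MonoidAlgebra.lift_apply, Finsupp.sum_fintype]
  intro g
  exact zero_smul K _

end Cfsg.Agent.H676.Frob
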